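import Groth.Agent.L19.AbhGalois.Index
import Groth.Agent.L19.AbhGalois.Unram
import Groth.Agent.L27.AbsAbh.Levels

/-!
# Abhyankar for covers with a transitive group of order invertible in the residue field
-/

set_option autoImplicit false
set_option linter.style.haveILetI false
set_option backward.isDefEq.respectTransparency false
set_option maxSynthPendingDepth 3

universe u v

open IsLocalRing TensorProduct EtRam
open Groth.L27.AbsAbh

namespace Groth.L19.AbhGalois

variable {A : Type u} [CommRing A] [IsDomain A] [IsDiscreteValuationRing A] {π : A}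

theorem mem_max {f : Fin 1 → A} (hπ : ∀ i, Irreducible (f i)) (i : Fin 1) : f i ∈ maximalIdeal A :=
  (mem_maximalIdeal _).2 (hπ i).not_isUnit

theorem linearIndependent_uniformizer {f : Fin 1 → A} (hπ : ∀ i, Irreducible (f i)) :
    LinearIndependent (ResidueField A)
      (fun i : Fin 1 => (maximalIdeal A).toCotangent ⟨f i, mem_max hπ i⟩) := by
  rw [linearIndependent_unique_iff, ne_eq, Ideal.toCotangent_eq_zero]
  show ¬ f default ∈ maximalIdeal A ^ 2
  rw [(hπ default).maximalIdeal_eq, Ideal.span_singleton_pow, Ideal.mem_span_singleton]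
  intro h
  have h' : f default ^ 2 ∣ f default ^ 1 := by rwa [pow_one]
  rw [pow_dvd_pow_iff (hπ default).ne_zero (hπ default).not_isUnit] at h'
  omega

theorem isPrime_span {f : Fin 1 → A} (hπ : ∀ i, Irreducible (f i)) (i : Fin 1) : (Ideal.span {f i}).IsPrime :=
  (Ideal.span_singleton_prime (hπ i).ne_zero).2 (hπ i).prime

theorem isLocalization_away_of_isFractionRing (hπ : Irreducible π) (K : Type u) [Field K] [Algebra A K]
    [IsFractionRing A K] : IsLocalization.Away π K :=
  by
  haveI : IsLocalization (nonZeroDivisors A) (Localization.Away π) :=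
    IsLocalization.of_le_of_exists_dvd (Submonoid.powers π) (nonZeroDivisors A)
      (powers_le_nonZeroDivisors_of_noZeroDivisors hπ.ne_zero) fun b hb => by
        obtain ⟨e, u, rfl⟩ := IsDiscreteValuationRing.eq_unit_mul_pow_irreducible (nonZeroDivisors.ne_zero hb) hπ
        exact ⟨π ^ e, ⟨e, rfl⟩, (Units.mul_left_dvd (u := u)).2 dvd_rfl⟩
  exact IsLocalization.isLocalization_of_algEquiv (Submonoid.powers π)
    (IsLocalization.algEquiv (nonZeroDivisors A) (Localization.Away π) K)

set_option maxHeartbeats 2000000 in
/-- The normalisation over the root of the uniformizer is finite etale. -/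
theorem etale_integralClosure_root {f : Fin 1 → A} (hπ : ∀ i, Irreducible (f i)) (K : Type u) [Field K] [Algebra A K] [IsFractionRing A K]
    {B : Type u} [CommRing B] [Algebra K B] [Module.Finite K B] [Algebra.Etale K B] {G : Type v} [Group G]
    (ρ : G → (B →ₐ[K] B)) (hone : ρ 1 = AlgHom.id K B) (hmul : ∀ g h, ρ (g * h) = (ρ h).comp (ρ g))
    (htrans : ∀ (Ω : Type u) [Field Ω] [IsAlgClosed Ω] [Algebra K Ω] (φ ψ : B →ₐ[K] Ω),
      ∃ g, φ.comp (ρ g) = ψ)
    (n : ℕ) (hcard : Nat.card G = n) (hn : IsUnit (n : A))
    (RF : Type u) [CommRing RF] [Algebra (SGA1.kummerAlg A f (fun _ => n)) RF]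
    [IsLocalization.Away (algebraMap A (SGA1.kummerAlg A f (fun _ => n)) (f 0)) RF]
    [Algebra A RF] [IsScalarTower A (SGA1.kummerAlg A f (fun _ => n)) RF]
    [Algebra K RF] [IsScalarTower A K RF] :
    Algebra.Etale (SGA1.kummerAlg A f (fun _ => n))
        (integralClosure (SGA1.kummerAlg A f (fun _ => n)) (RF ⊗[K] B)) ∧
      Module.Finite (SGA1.kummerAlg A f (fun _ => n))
        (integralClosure (SGA1.kummerAlg A f (fun _ => n)) (RF ⊗[K] B)) ∧
      IsLocalization.Away (algebraMap (SGA1.kummerAlg A f (fun _ => n))
        (integralClosure (SGA1.kummerAlg A f (fun _ => n)) (RF ⊗[K] B))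
          (algebraMap A _ (f 0))) (RF ⊗[K] B) := by
  classical
  let nn : Fin 1 → ℕ := fun _ => n
  let R := SGA1.kummerAlg A f nn
  haveI hpr : ∀ i : Fin 1, (Ideal.span {f i}).IsPrime := isPrime_span hπ
  have hf := linearIndependent_uniformizer hπ
  have hn0 : n ≠ 0 := fun h => not_isUnit_zero (M₀ := A) (by rwa [h, Nat.cast_zero] at hn)
  have hn1 : ∀ i, 1 ≤ nn i := fun _ => Nat.one_le_iff_ne_zero.2 hn0
  haveI : IsRegularLocalRing R := isRegular_kummer A hf hn1
  haveI : IsDomain R := isDomain_kummer A hf hn1
  have hprod : (∏ i, f i) = f 0 := Fin.prod_univ_one f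
  haveI hK : IsLocalization.Away (∏ i, f i) K := by
    rw [hprod]; exact isLocalization_away_of_isFractionRing (hπ 0) K
  letI : Algebra A B := ((algebraMap K B).comp (algebraMap A K)).toAlgebra
  haveI : IsScalarTower A K B := IsScalarTower.of_algebraMap_eq' rfl
  have key : ∀ (i : Fin 1) (q : Ideal B) [q.IsPrime] (hq : Ideal.comap (algebraMap A B) q = ⊥)
      (V : ValuationSubring q.ResidueField)
      (hV : Dominates (Localization.AtPrime (Ideal.span {f i}))
        (SGA1.genericResidueMap (algebraMap A B) (Ideal.span {f i}) q hq) V),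
      letI : Algebra (Localization.AtPrime (Ideal.span {f i})) V :=
        (RingHom.codRestrict (SGA1.genericResidueMap (algebraMap A B) (Ideal.span {f i}) q hq) V hV.1).toAlgebra
      ∀ [IsLocalHom (algebraMap (Localization.AtPrime (Ideal.span {f i})) V)],
        (Algebra.IsSeparable (ResidueField (Localization.AtPrime (Ideal.span {f i}))) (ResidueField V) ∧
          ∀ p : ℕ, p.Prime → CharP (ResidueField (Localization.AtPrime (Ideal.span {f i}))) p →
            ¬ p ∣ Ideal.ramificationIdx' (maximalIdeal (Localization.AtPrime (Ideal.span {f i}))) (maximalIdeal V)) ∧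
        Ideal.ramificationIdx' (maximalIdeal (Localization.AtPrime (Ideal.span {f i}))) (maximalIdeal V) ∣ n := by
    intro i q _ hq V hV
    obtain ⟨hgal, hfd, hdvd⟩ := isGalois_residueField ρ hone hmul htrans q
    let A0 := Localization.AtPrime (Ideal.span {f i})
    haveI : IsDomain A0 := IsLocalization.isDomain_localization (Ideal.span {f i}).primeCompl_le_nonZeroDivisors
    haveI : IsDiscreteValuationRing A0 := isDiscreteValuationRing_atPrime (Ideal.span {f i}) (by
      rw [← (hπ i).maximalIdeal_eq]
      exact WithBot.coe_injective ((IsLocalRing.maximalIdeal_height_eq_ringKrullDim).trans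
        (IsDiscreteValuationRing.ringKrullDim_eq_one A)))
    have hu : ∀ y : (Ideal.span {f i}).primeCompl, IsUnit (algebraMap A K y) := fun y =>
      isUnit_iff_ne_zero.2 fun h => y.2 (by
        rw [(IsFractionRing.injective A K) (h.trans (map_zero _).symm)]; exact Ideal.zero_mem _)
    letI : Algebra A0 K := (IsLocalization.lift hu : A0 →+* K).toAlgebra
    haveI : IsScalarTower A A0 K := IsScalarTower.of_algebraMap_eq fun a => (IsLocalization.lift_eq hu a).symm
    haveI : IsFractionRing A0 K :=
      IsFractionRing.isFractionRing_of_isDomain_of_isLocalization (Ideal.span {f i}).primeCompl A0 K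
    let g := SGA1.genericResidueMap (algebraMap A B) (Ideal.span {f i}) q hq
    letI algL : Algebra A0 q.ResidueField := g.toAlgebra
    haveI : IsScalarTower A0 K q.ResidueField := IsScalarTower.of_algebraMap_eq' (IsLocalization.ringHom_ext
      (Ideal.span {f i}).primeCompl (RingHom.ext fun a => by
        refine ((IsLocalization.lift_eq _ a).trans ?_)
        show algebraMap B q.ResidueField (algebraMap K B (algebraMap A K a)) =
          algebraMap K q.ResidueField (algebraMap A0 K (algebraMap A A0 a))
        rw [← IsScalarTower.algebraMap_apply A A0 K, ← IsScalarTower.algebraMap_apply K B q.ResidueField]))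
    have hnA0 : IsUnit ((n : ℕ) : A0) := by
      rw [← map_natCast (algebraMap A A0)]; exact hn.map _
    have hne : (Module.finrank K q.ResidueField : ResidueField A0) ≠ 0 := by
      obtain ⟨c, hc⟩ := hdvd
      intro h0
      have h1 : ((n : ℕ) : ResidueField A0) ≠ 0 := by
        rw [← map_natCast (residue A0)]; exact ((hnA0.map (residue A0))).ne_zero
      exact h1 (by rw [← hcard, hc, Nat.cast_mul, h0, zero_mul])
    letI : Algebra A0 V := (RingHom.codRestrict g V hV.1).toAlgebra
    intro hloc
    refine ⟨Groth.L05.EtRamProper.isTamelyRamified_of_galois (K := K) hne V hV,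
      (idx_dvd_finrank_of_galois (K := K) V hV).trans ?_⟩
    rwa [hcard] at hdvd
  have htame : SGA1.IsTameAlong f (algebraMap A B) := fun i q _ hq V hV => by
    intro _
    exact (key i q hq V hV).1
  have hgood : Good A B R (FractionRing R) := by
    intro M _ _ _ _ _ _ _ _ φ hgen P _ hP1
    haveI := isIntegrallyClosed_kummer A hf hn1
    have hF := prod_ne_zero (A := A) hf
    by_cases hPF : algebraMap A (integralClosure R M) (∏ i, f i) ∈ P
    · rw [IsScalarTower.algebraMap_apply A R (integralClosure R M), ← Ideal.mem_comap] at hPF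
      obtain ⟨j, hj⟩ := eq_span_root_of_mem hf hn1 hP1 hPF
      exact isUnramifiedAt_root_of_dvd f hf (∏ i, f i) hF K htame hn1 j
        (fun q _ hq V hV => by intro _; exact (key j q hq V hV).2) φ hgen P hj
    · exact isUnramifiedAt_of_notMem (∏ i, f i) K φ hgen
        (fun h => hF (injective_kummer A hn1 (h.trans (map_zero _).symm))) P hPF
  let T := RF ⊗[K] B
  haveI : IsScalarTower A R T := IsScalarTower.of_algebraMap_eq (R := A) (S := R) (A := T) fun a => by
    rw [Algebra.TensorProduct.algebraMap_apply, Algebra.TensorProduct.algebraMap_apply,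
      ← IsScalarTower.algebraMap_apply A R RF]
  let φT : B →ₐ[A] T := AlgHom.mk (Algebra.TensorProduct.includeRight : B →ₐ[K] T).toRingHom fun a => by
    show (1 : RF) ⊗ₜ[K] algebraMap A B a = algebraMap A RF a ⊗ₜ[K] (1 : B)
    rw [IsScalarTower.algebraMap_apply A K B, IsScalarTower.algebraMap_apply A K RF,
      Algebra.TensorProduct.tmul_one_eq_one_tmul]
  have hgenT : Algebra.adjoin RF (Set.range φT) = ⊤ := by
    refine eq_top_iff.2 fun z _ => ?_
    induction z using TensorProduct.induction_on with
    | zero => exact zero_mem _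
    | add x y hx hy => exact add_mem (hx trivial) (hy trivial)
    | tmul k b =>
      rw [show k ⊗ₜ[K] b = k • ((1 : RF) ⊗ₜ[K] b) by rw [TensorProduct.smul_tmul', smul_eq_mul, mul_one]]
      exact Subalgebra.smul_mem _ (Algebra.subset_adjoin (Set.mem_range_self (f := φT) b)) k
  have hG : algebraMap A R (f 0) ≠ 0 := fun h => (hπ 0).ne_zero (injective_kummer A hn1 (h.trans (map_zero _).symm))
  exact etale_integralClosure (fun q _ => Groth.Agent.S0564.result R q) (K := FractionRing R) hgood
    (algebraMap A R (f 0)) hG (RF := RF) φT hgenT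

end Groth.L19.AbhGalois
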