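import Groth.Agent.L27.AbsAbh.Main
import Groth.Agent.L11.SmRegular.Basic
import Groth.Agent.L07.FibreCodim
import Groth.Agent.L06.SepKaehler
import Groth.Agent.L01.Regular
import Mathlib.RingTheory.TensorProduct.Quotient

/-!
# Stalks of smooth schemes over discrete valuation rings
-/

set_option autoImplicit false
set_option linter.style.haveILetI false
set_option backward.isDefEq.respectTransparency.types false

universe u

open AlgebraicGeometry CategoryTheory IsLocalRing
open scoped TensorProduct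

namespace Groth.L19.AbhGalois

theorem isDiscreteValuationRing_of_regular (A : Type u) [CommRing A] [IsRegularLocalRing A] [IsDomain A]
    (h : ringKrullDim A = 1) : IsDiscreteValuationRing A := by
  haveI : IsIntegrallyClosed A := Groth.L03.RegularNormal.isIntegrallyClosed A
  have hnf : ¬ IsField A := fun hF => by
    rw [ringKrullDim_eq_zero_of_isField hF] at h
    exact zero_ne_one h
  haveI : Ring.KrullDimLE 1 A := Ring.krullDimLE_iff.2 h.le
  have tf := IsDiscreteValuationRing.TFAE A hnf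
  apply (tf.out 0 3).2
  refine ⟨inferInstance, maximalIdeal _,
    ⟨fun hm => hnf (isField_iff_maximalIdeal_eq.2 hm), inferInstance⟩, fun Q hQ => ?_⟩
  haveI := hQ.2
  exact eq_maximalIdeal ((Ring.krullDimLE_one_iff_of_noZeroDivisors.1 ‹_›) Q hQ.1 hQ.2)

variable {V : Type u} [CommRing V] [IsDomain V] [IsDiscreteValuationRing V]

/-- The special fibre of a smooth algebra over a discrete valuation ring is reduced. -/
theorem mem_span_of_sq_mem {ϖ : V} (hϖ : Irreducible ϖ) (S : Type u) [CommRing S] [Algebra V S]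
    [Algebra.Smooth V S] {x : S} (hx : x ^ 2 ∈ Ideal.span {algebraMap V S ϖ}) :
    x ∈ Ideal.span {algebraMap V S ϖ} := by
  let m := maximalIdeal V
  letI : Field (V ⧸ m) := Ideal.Quotient.field m
  haveI : IsRegularRing (V ⧸ m) := isRegularRing_iff.2 fun r _ => Groth.Agent.S0564.result (V ⧸ m) r
  haveI : IsRegularRing ((V ⧸ m) ⊗[V] S) := Groth.L03.GeomRegular.isRegularRing_of_smooth (V ⧸ m) _
  haveI := Groth.L06.SepKaehler.isReduced_of_regularRing ((V ⧸ m) ⊗[V] S)
  let e := (Algebra.TensorProduct.quotIdealMapEquivQuotTensor (B := S) m)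
  have hI : m.map (algebraMap V S) = Ideal.span {algebraMap V S ϖ} := by
    rw [show m = maximalIdeal V from rfl, hϖ.maximalIdeal_eq, Ideal.map_span, Set.image_singleton]
  haveI : IsReduced (S ⧸ m.map (algebraMap V S)) := isReduced_of_injective e.toRingHom e.injective
  have h : (Ideal.Quotient.mk (m.map (algebraMap V S))) x ^ 2 = 0 := by
    rw [← map_pow, Ideal.Quotient.eq_zero_iff_mem, hI]; exact hx
  have h2 := IsReduced.eq_zero _ ⟨2, h⟩
  rwa [Ideal.Quotient.eq_zero_iff_mem, hI] at h2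

/-- A uniformizer stays one in the local ring at a codimension one point of the special fibre. -/
theorem irreducible_stalk {ϖ : V} (hϖ : Irreducible ϖ) {X : Scheme.{u}} (f : X ⟶ Spec (CommRingCat.of V))
    [Smooth f] (x : X) [IsDomain (X.presheaf.stalk x)] [IsDiscreteValuationRing (X.presheaf.stalk x)]
    (j : CommRingCat.of V ⟶ X.presheaf.stalk x) (hj : Spec.map j = X.fromSpecStalk x ≫ f)
    (hm : j.hom ϖ ∈ maximalIdeal (X.presheaf.stalk x)) (h0 : j.hom ϖ ≠ 0) :
    Irreducible (j.hom ϖ) := by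
  obtain ⟨_, ⟨U, hU, rfl⟩, hxU, -⟩ := X.isBasis_affineOpens.exists_subset_of_mem_open
    (show x ∈ (⊤ : X.Opens) from trivial) (⊤ : X.Opens).2
  let φ : CommRingCat.of V ⟶ Γ(X, U) := Spec.preimage (hU.fromSpec ≫ f)
  have hφ : Spec.map φ = hU.fromSpec ≫ f := Spec.map_preimage _
  haveI : Smooth (Spec.map φ) := by rw [hφ]; infer_instance
  letI : Algebra V Γ(X, U) := φ.hom.toAlgebra
  haveI : Algebra.Smooth V Γ(X, U) :=
    RingHom.smooth_algebraMap.1 ((HasRingHomProperty.Spec_iff (P := @Smooth)).1 ‹_›)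
  letI := X.presheaf.algebra_section_stalk ⟨x, hxU⟩
  haveI := hU.isLocalization_stalk ⟨x, hxU⟩
  have hfac : φ ≫ X.presheaf.germ U x hxU = j := Spec.map_injective (by
    rw [Spec.map_comp, hφ, hj, ← hU.fromSpecStalk_eq_fromSpecStalk hxU, IsAffineOpen.fromSpecStalk,
      Category.assoc])
  let a : Γ(X, U) := algebraMap V Γ(X, U) ϖ
  have ha : algebraMap Γ(X, U) (X.presheaf.stalk x) a = j.hom ϖ := congr($(hfac).hom ϖ)
  obtain ⟨q, hq⟩ := IsDiscreteValuationRing.exists_irreducible (X.presheaf.stalk x)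
  obtain ⟨e, u, he⟩ := IsDiscreteValuationRing.eq_unit_mul_pow_irreducible h0 hq
  match e with
  | 0 =>
    exfalso
    rw [pow_zero, mul_one] at he
    exact (mem_maximalIdeal _).1 hm (he ▸ u.isUnit)
  | 1 =>
    rw [he, pow_one]
    exact (irreducible_units_mul u).2 hq
  | e + 2 =>
    exfalso
    let z := q ^ (e + 1)
    obtain ⟨⟨y, s⟩, hys⟩ := IsLocalization.surj (hU.primeIdealOf ⟨x, hxU⟩).asIdeal.primeCompl z
    have hsu := IsLocalization.map_units (X.presheaf.stalk x) s
    obtain ⟨⟨w, t⟩, hwt⟩ := IsLocalization.surj (hU.primeIdealOf ⟨x, hxU⟩).asIdeal.primeCompl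
      ((↑u⁻¹ : X.presheaf.stalk x) * q ^ e * (algebraMap Γ(X, U) (X.presheaf.stalk x) s) ^ 2)
    have htu := IsLocalization.map_units (X.presheaf.stalk x) t
    have hsq : algebraMap Γ(X, U) (X.presheaf.stalk x) (y ^ 2 * t) =
        algebraMap Γ(X, U) (X.presheaf.stalk x) (a * w) := by
      rw [map_mul, map_pow, map_mul, ha, ← hys, ← hwt, he]
      have : (u : X.presheaf.stalk x) * ↑u⁻¹ = 1 := u.mul_inv
      linear_combination -(q ^ (e + 2) * q ^ e * (algebraMap Γ(X, U) (X.presheaf.stalk x) s) ^ 2 *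
        algebraMap Γ(X, U) (X.presheaf.stalk x) t) * this
    obtain ⟨c, hc⟩ := IsLocalization.exists_of_eq (M := (hU.primeIdealOf ⟨x, hxU⟩).asIdeal.primeCompl) hsq
    have hmem : ((c : Γ(X, U)) * t * y) ^ 2 ∈ Ideal.span {a} :=
      Ideal.mem_span_singleton'.2 ⟨w * ((c : Γ(X, U)) * c * t), by linear_combination -((c : Γ(X, U)) * t) * hc⟩
    obtain ⟨d, hd⟩ := Ideal.mem_span_singleton'.1 (mem_span_of_sq_mem hϖ Γ(X, U) hmem)
    have hcu := IsLocalization.map_units (X.presheaf.stalk x) c
    have hdvd : q ^ (e + 2) ∣ q ^ (e + 1) := by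
      have h1 := congrArg (algebraMap Γ(X, U) (X.presheaf.stalk x)) hd
      rw [map_mul, map_mul, map_mul, ha, ← hys, he] at h1
      refine ((hcu.mul htu).mul hsu).dvd_mul_left.1 ⟨algebraMap Γ(X, U) (X.presheaf.stalk x) d * u, ?_⟩
      linear_combination -h1
    rw [pow_dvd_pow_iff hq.ne_zero hq.not_isUnit] at hdvd
    omega

/-- The root extension of a discrete valuation ring has regular local rings. -/
theorem isRegularLocalRing_stalk_root {ϖ : V} (hϖ : Irreducible ϖ) {n : ℕ} (hn : 1 ≤ n)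
    (y : Spec (CommRingCat.of (AdjoinRoot (Polynomial.X ^ n - Polynomial.C ϖ)))) :
    IsRegularLocalRing ((Spec (CommRingCat.of (AdjoinRoot (Polynomial.X ^ n - Polynomial.C ϖ)))).presheaf.stalk y) := by
  let f : Fin 1 → V := fun _ => ϖ
  have hm : ∀ i, f i ∈ maximalIdeal V := fun _ => (mem_maximalIdeal ϖ).2 hϖ.not_isUnit
  have hf : LinearIndependent (ResidueField V) (fun i : Fin 1 => (maximalIdeal V).toCotangent ⟨f i, hm i⟩) := by
    rw [linearIndependent_unique_iff, ne_eq, Ideal.toCotangent_eq_zero]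
    show ¬ ϖ ∈ maximalIdeal V ^ 2
    rw [hϖ.maximalIdeal_eq, Ideal.span_singleton_pow, Ideal.mem_span_singleton]
    intro h
    have h' : ϖ ^ 2 ∣ ϖ ^ 1 := by rwa [pow_one]
    rw [pow_dvd_pow_iff hϖ.ne_zero hϖ.not_isUnit] at h'
    omega
  haveI := Groth.L27.AbsAbh.isRegular_kummer V hf (n := fun _ => n) fun _ => hn
  let p : Polynomial V := Polynomial.X ^ n - Polynomial.C ϖ
  let R := SGA1.kummerAlg V f (fun _ => n)
  let r : AdjoinRoot p →+* R := AdjoinRoot.lift (algebraMap V R) (Groth.L27.AbsAbh.root f _ 0) (by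
    rw [Polynomial.eval₂_sub, Polynomial.eval₂_X_pow, Polynomial.eval₂_C, sub_eq_zero]
    exact Groth.L27.AbsAbh.root_pow f _ 0)
  let l : R →+* AdjoinRoot p :=
    Groth.L27.AbsAbh.liftHom (f := f) (n := fun _ => n) (AdjoinRoot.of p) (fun _ => AdjoinRoot.root p) fun _ => by
      have h := AdjoinRoot.eval₂_root p
      rw [Polynomial.eval₂_sub, Polynomial.eval₂_X_pow, Polynomial.eval₂_C, sub_eq_zero] at h
      exact h
  have hlr : l.comp r = RingHom.id _ := by
    refine Ideal.Quotient.ringHom_ext (Polynomial.ringHom_ext (fun a => ?_) ?_)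
    · show l (r (AdjoinRoot.of p a)) = AdjoinRoot.of p a
      rw [AdjoinRoot.lift_of, Groth.L27.AbsAbh.liftHom_algebraMap]
    · show l (r (AdjoinRoot.root p)) = AdjoinRoot.root p
      rw [AdjoinRoot.lift_root, Groth.L27.AbsAbh.liftHom_root]
  have hrl : ∀ z, r (l z) = z := by
    intro z
    induction z using Groth.L27.AbsAbh.kummer_induction with
    | hC a => rw [Groth.L27.AbsAbh.liftHom_algebraMap, AdjoinRoot.lift_of]
    | hadd a b ha hb => rw [map_add, map_add, ha, hb]
    | hmul a i ha =>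
      rw [map_mul, map_mul, ha, Groth.L27.AbsAbh.liftHom_root, AdjoinRoot.lift_root, Subsingleton.elim i 0]
  haveI : IsRegularLocalRing (AdjoinRoot p) :=
    IsRegularLocalRing.of_ringEquiv (RingEquiv.ofBijective r
      ⟨fun a b h => by simpa [← RingHom.comp_apply, hlr] using congrArg l h, fun z => ⟨l z, hrl z⟩⟩).symm
  haveI := Groth.Agent.S0564.result (AdjoinRoot p) y.asIdeal
  exact IsRegularLocalRing.of_ringEquiv
    (IsLocalization.algEquiv y.asIdeal.primeCompl (Localization.AtPrime y.asIdeal)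
      ((Spec.structureSheaf (AdjoinRoot p)).presheaf.stalk y)).toRingEquiv

end Groth.L19.AbhGalois
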