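import Groth.Agent.L19.AbhGalois.Local
import Groth.Agent.L19.AbhGalois.Stalk
import Groth.Agent.L27.ExtendReg.Main
import Mathlib.AlgebraicGeometry.Morphisms.Flat
import Mathlib.RingTheory.AdjoinRoot

/-!
# Galois covers of the generic fibre extend after adjoining a root of the uniformizer
-/

set_option autoImplicit false
set_option linter.style.haveILetI false
set_option backward.isDefEq.respectTransparency.types false
set_option maxSynthPendingDepth 3

universe u

open AlgebraicGeometry CategoryTheory CategoryTheory.Limits IsLocalRing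
open Groth.L27.ExtendReg (restrictIso)

noncomputable section

namespace Groth.L19.AbhGalois

variable {V K : Type u} [CommRing V] [IsDomain V] [IsDiscreteValuationRing V] [Field K] [Algebra V K]
  [IsFractionRing V K] {ϖ : V} (hϖ : Irreducible ϖ)

/-- The generic point as an open subscheme. -/
abbrev genInc (V K : Type u) [CommRing V] [Field K] [Algebra V K] :
    Spec (CommRingCat.of K) ⟶ Spec (CommRingCat.of V) :=
  Spec.map (CommRingCat.ofHom (algebraMap V K))

include hϖ in
theorem isOpenImmersion_genInc : IsOpenImmersion (genInc V K) := by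
  haveI := isLocalization_away_of_isFractionRing hϖ K
  exact IsOpenImmersion.of_isLocalization ϖ

include hϖ in
theorem range_genInc : Set.range (genInc V K) = (PrimeSpectrum.basicOpen ϖ : Set (PrimeSpectrum V)) := by
  haveI := isLocalization_away_of_isFractionRing hϖ K
  exact PrimeSpectrum.localization_away_comap_range K ϖ

variable {X : Scheme.{u}} (f : X ⟶ Spec (CommRingCat.of V))

include hϖ in
theorem mem_range_fst {x : X} :
    x ∈ Set.range (pullback.fst f (genInc V K)) ↔ f x ∈ (PrimeSpectrum.basicOpen ϖ : Set (PrimeSpectrum V)) := by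
  rw [Scheme.Pullback.range_fst, Set.mem_preimage, range_genInc hϖ]
  exact Iff.rfl

include hϖ in
theorem exists_generization [Flat f] (x : X) :
    ∃ y : X, y ⤳ x ∧ f y ∈ (PrimeSpectrum.basicOpen ϖ : Set (PrimeSpectrum V)) := by
  let η : PrimeSpectrum V := ⟨⊥, Ideal.isPrime_bot⟩
  have hη : η ⤳ f x := (PrimeSpectrum.le_iff_specializes η (f x)).1 bot_le
  obtain ⟨y, hy, hfy⟩ := Flat.generalizingMap f hη
  refine ⟨y, hy, ?_⟩
  rw [hfy]
  exact fun h => hϖ.ne_zero (Ideal.mem_bot.1 h)

include hϖ in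
theorem isRegularLocalRing_spec (y : Spec (CommRingCat.of V)) :
    IsRegularLocalRing ((Spec (CommRingCat.of V)).presheaf.stalk y) := by
  haveI := Groth.Agent.S0564.result V y.asIdeal
  exact IsRegularLocalRing.of_ringEquiv
    (IsLocalization.algEquiv y.asIdeal.primeCompl (Localization.AtPrime y.asIdeal)
      ((Spec.structureSheaf V).presheaf.stalk y)).toRingEquiv

set_option maxHeartbeats 1000000 in
include hϖ in
/-- The extension at a codimension one point of the special fibre. -/
theorem exists_extension_at [Smooth f] {n : ℕ} (hn : IsUnit (n : V))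
    (Xt : FEt.Cat (pullback f (genInc V K)))
    (hgal : ∀ (Ω : Type u) [Field Ω] [IsAlgClosed Ω]
      (ξ : Spec (CommRingCat.of Ω) ⟶ pullback f (genInc V K))
      (s s' : FEt.fiberObj ξ Xt), ∃ σ : Aut Xt, (FEt.fiber ξ).map σ.hom s = s')
    (hdeg : Nat.card (Aut Xt) = n)
    (ξ : (pullback f (Spec.map (CommRingCat.ofHom
      (algebraMap V (AdjoinRoot (Polynomial.X ^ n - Polynomial.C ϖ))))) : Scheme.{u}))
    (hξ : pullback.fst f (Spec.map (CommRingCat.ofHom
      (algebraMap V (AdjoinRoot (Polynomial.X ^ n - Polynomial.C ϖ))))) ξ ∉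
        Set.range (pullback.fst f (genInc V K)))
    (hd : ringKrullDim ((pullback f (Spec.map (CommRingCat.ofHom
      (algebraMap V (AdjoinRoot (Polynomial.X ^ n - Polynomial.C ϖ)))))).presheaf.stalk ξ) = 1) :
    ∃ Yξ : FEt.Cat (Spec ((pullback f (Spec.map (CommRingCat.ofHom
        (algebraMap V (AdjoinRoot (Polynomial.X ^ n - Polynomial.C ϖ)))))).presheaf.stalk ξ)),
      ∀ (P : Scheme.{u}) (a : P ⟶ Spec ((pullback f (Spec.map (CommRingCat.ofHom
          (algebraMap V (AdjoinRoot (Polynomial.X ^ n - Polynomial.C ϖ)))))).presheaf.stalk ξ))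
        (b : P ⟶ pullback f (genInc V K)),
        a ≫ Scheme.fromSpecStalk _ ξ ≫ pullback.fst f _ = b ≫ pullback.fst f (genInc V K) →
          Nonempty ((FEt.restrict a).obj Yξ ≅ (FEt.restrict b).obj Xt) := by
  classical
  let p : Polynomial V := Polynomial.X ^ n - Polynomial.C ϖ
  let V₁ := AdjoinRoot p
  let s1 : Spec (CommRingCat.of V₁) ⟶ Spec (CommRingCat.of V) := Spec.map (CommRingCat.ofHom (algebraMap V V₁))
  let X₁ := pullback f s1
  let π₁ : X₁ ⟶ X := pullback.fst f s1
  let sK := pullback.fst f (genInc V K)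
  haveI : IsOpenImmersion (genInc V K) := isOpenImmersion_genInc hϖ
  have hn0 : n ≠ 0 := fun h => not_isUnit_zero (M₀ := V) (by rwa [h, Nat.cast_zero] at hn)
  have hmonic : p.Monic := Polynomial.monic_X_pow_sub_C ϖ hn0
  haveI : Module.Free V V₁ := hmonic.free_adjoinRoot
  haveI : Module.Finite V V₁ := hmonic.finite_adjoinRoot
  haveI : IsNoetherianRing V₁ := IsNoetherianRing.of_finite V V₁
  haveI : Flat s1 := by
    rw [HasRingHomProperty.Spec_iff (P := @Flat), CommRingCat.hom_ofHom, RingHom.flat_algebraMap_iff]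
    infer_instance
  haveI : Flat π₁ := inferInstanceAs (Flat (pullback.fst f s1))
  haveI : IsLocallyNoetherian X := LocallyOfFiniteType.isLocallyNoetherian f
  haveI : IsLocallyNoetherian X₁ := LocallyOfFiniteType.isLocallyNoetherian (pullback.snd f s1)
  let x : X := π₁ ξ
  let A := X.presheaf.stalk x
  haveI := isRegularLocalRing_spec hϖ (f x)
  haveI : IsRegularLocalRing A := Groth.L11.SmRegular.isRegularLocalRing_stalk f x
  haveI : IsDomain A := Groth.L01.isDomain_of_regular A
  let j : CommRingCat.of V ⟶ A := Spec.preimage (X.fromSpecStalk x ≫ f)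
  have hj : Spec.map j = X.fromSpecStalk x ≫ f := Spec.map_preimage _
  have hjpt : ∀ z : Spec A, f (X.fromSpecStalk x z) = (Spec.map j) z := fun z => by
    rw [← Scheme.Hom.comp_apply, hj]
  have hfx : f x ∉ (PrimeSpectrum.basicOpen ϖ : Set (PrimeSpectrum V)) :=
    fun h => hξ ((mem_range_fst hϖ f).2 h)
  have hm : j.hom ϖ ∈ maximalIdeal A := by
    have h1 := hjpt (closedPoint A)
    rw [Scheme.fromSpecStalk_closedPoint] at h1
    by_contra hu
    refine hfx ?_
    rw [h1]
    exact hu
  have h0 : j.hom ϖ ≠ 0 := by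
    intro h
    obtain ⟨y, hy, hfy⟩ := exists_generization hϖ f x
    obtain ⟨z, rfl⟩ : y ∈ Set.range (X.fromSpecStalk x) := by rw [Scheme.range_fromSpecStalk]; exact hy
    rw [hjpt] at hfy
    exact hfy (show j.hom ϖ ∈ (z : PrimeSpectrum A).asIdeal by rw [h]; exact zero_mem _)
  have hA1 : ringKrullDim A = 1 := by
    refine le_antisymm (hd ▸ Groth.L07.FibreCodim.dim_le_of_flat π₁ ξ inferInstance inferInstance) ?_
    by_contra hlt
    haveI : Ring.KrullDimLE 0 A := Ring.krullDimLE_iff.2 (by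
      obtain ⟨d, hd'⟩ := WithBot.ne_bot_iff_exists.1
        (ne_bot_of_le_ne_bot (by decide) (ringKrullDim_nonneg_of_nontrivial (R := A)))
      rw [← hd'] at hlt ⊢
      have hd0 : d = 0 := by
        by_contra h
        exact hlt (WithBot.coe_le_coe.2 (ENat.one_le_iff_ne_zero.2 h))
      rw [hd0]
      rfl)
    have hF : IsField A := Ring.KrullDimLE.isField_of_isDomain
    exact (mem_maximalIdeal _).1 hm (by
      obtain ⟨c, hc⟩ := hF.mul_inv_cancel h0
      exact IsUnit.of_mul_eq_one c hc)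
  haveI : IsDiscreteValuationRing A := isDiscreteValuationRing_of_regular A hA1
  let fA : Fin 1 → A := fun _ => j.hom ϖ
  have hπ : ∀ i, Irreducible (fA i) := fun _ => irreducible_stalk hϖ f x j hj hm h0
  have hnA : IsUnit ((n : ℕ) : A) := by rw [← map_natCast j.hom]; exact hn.map _
  let K0 := FractionRing A
  let R := SGA1.kummerAlg A fA (fun _ => n)
  let RF := Localization.Away (algebraMap A R (fA 0))
  haveI : IsLocalization.Away (fA 0) K0 := isLocalization_away_of_isFractionRing (hπ 0) K0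
  have hu : IsUnit (algebraMap A RF (fA 0)) := by
    rw [IsScalarTower.algebraMap_apply A R RF]
    exact IsLocalization.Away.algebraMap_isUnit _
  letI : Algebra K0 RF := (IsLocalization.Away.lift (fA 0) hu : K0 →+* RF).toAlgebra
  haveI : IsScalarTower A K0 RF :=
    IsScalarTower.of_algebraMap_eq fun a => (IsLocalization.Away.lift_eq (fA 0) hu a).symm
  -- the generic point
  let a0 : Spec (CommRingCat.of K0) ⟶ X := Spec.map (CommRingCat.ofHom (algebraMap A K0)) ≫ X.fromSpecStalk x
  have ha0 : Set.range a0 ⊆ Set.range sK := by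
    rintro _ ⟨z, rfl⟩
    rw [mem_range_fst hϖ, Scheme.Hom.comp_apply, hjpt]
    exact fun h => z.2.ne_top (Ideal.eq_top_of_isUnit_mem _ h (IsLocalization.Away.algebraMap_isUnit (fA 0)))
  let b0 : Spec (CommRingCat.of K0) ⟶ pullback f (genInc V K) := IsOpenImmersion.lift sK a0 ha0
  have hb0 : b0 ≫ sK = a0 := IsOpenImmersion.lift_fac _ _ _
  let Vc := (FEt.restrict b0).obj Xt
  let ρ : Aut Xt →* Aut Vc := (FEt.restrict b0).mapAut Xt
  have htrans : ∀ (Ω : Type u) [Field Ω] [IsAlgClosed Ω] (s t : Spec (CommRingCat.of Ω) ⟶ Vc.left),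
      s ≫ Vc.hom = t ≫ Vc.hom → ∃ g, s ≫ (ρ g).hom.left = t := by
    intro Ω _ _ s t hst
    have hs : (s ≫ pullback.fst Xt.hom b0) ≫ Xt.hom = (s ≫ Vc.hom) ≫ b0 :=
      ((Category.assoc _ _ _).trans (congrArg (s ≫ ·) pullback.condition)).trans (Category.assoc _ _ _).symm
    have ht : (t ≫ pullback.fst Xt.hom b0) ≫ Xt.hom = (s ≫ Vc.hom) ≫ b0 := by
      refine (((Category.assoc _ _ _).trans (congrArg (t ≫ ·) pullback.condition)).trans
        (Category.assoc _ _ _).symm).trans ?_
      exact congrArg (· ≫ b0) hst.symm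
    obtain ⟨σ, hσ⟩ := hgal Ω _ ⟨_, hs⟩ ⟨_, ht⟩
    have h1 : (s ≫ pullback.fst Xt.hom b0) ≫ σ.hom.left = t ≫ pullback.fst Xt.hom b0 := congrArg Subtype.val hσ
    refine ⟨σ, pullback.hom_ext ?_ ?_⟩
    · refine ((Category.assoc _ _ _).trans ?_).trans h1
      refine Eq.trans ?_ (Category.assoc _ _ _).symm
      refine congrArg (s ≫ ·) ?_
      exact pullback.lift_fst _ _ _
    · refine ((Category.assoc _ _ _).trans ?_).trans hst
      refine congrArg (s ≫ ·) ?_
      exact pullback.lift_snd _ _ _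
  obtain ⟨W, ⟨eW⟩⟩ := exists_extension_local hπ K0 Vc ρ htrans n hdeg hnA RF
  -- the map from the local scheme
  let O := X₁.presheaf.stalk ξ
  let k : CommRingCat.of V₁ ⟶ O := Spec.preimage (X₁.fromSpecStalk ξ ≫ pullback.snd f s1)
  let g : A →+* O := (π₁.stalkMap ξ).hom
  have hkg : CommRingCat.ofHom (algebraMap V V₁) ≫ k = j ≫ π₁.stalkMap ξ := Spec.map_injective (by
    rw [Spec.map_comp, Spec.map_comp, Spec.map_preimage, hj, Category.assoc, ← pullback.condition,
      ← Category.assoc, ← Category.assoc, Scheme.SpecMap_stalkMap_fromSpecStalk])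
  have hroot : ∀ i : Fin 1, (fun _ : Fin 1 => k.hom (AdjoinRoot.root p)) i ^ n = g (fA i) := fun i => by
    have h1 := congr($(hkg).hom ϖ)
    have h2 := congrArg k.hom (AdjoinRoot.eval₂_root p)
    rw [Polynomial.eval₂_sub, Polynomial.eval₂_X_pow, Polynomial.eval₂_C, map_sub, map_zero, sub_eq_zero,
      map_pow] at h2
    exact h2.trans h1
  let θr : R →+* O := Groth.L27.AbsAbh.liftHom g _ hroot
  let θ : Spec O ⟶ Spec (CommRingCat.of R) := Spec.map (CommRingCat.ofHom θr)
  let ι : Spec (CommRingCat.of RF) ⟶ Spec (CommRingCat.of R) := Spec.map (CommRingCat.ofHom (algebraMap R RF))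
  haveI : IsOpenImmersion ι := IsOpenImmersion.of_isLocalization (algebraMap A R (fA 0))
  let δ : Spec (CommRingCat.of R) ⟶ Spec A := Spec.map (CommRingCat.ofHom (algebraMap A R))
  have hθ : θ ≫ δ ≫ X.fromSpecStalk x = X₁.fromSpecStalk ξ ≫ π₁ := by
    have e : CommRingCat.ofHom (algebraMap A R) ≫ CommRingCat.ofHom θr = π₁.stalkMap ξ :=
      CommRingCat.hom_ext (RingHom.ext fun a => Groth.L27.AbsAbh.liftHom_algebraMap g _ hroot a)
    rw [← Category.assoc]
    refine (congrArg (· ≫ X.fromSpecStalk x) ((Spec.map_comp _ _).symm.trans (congrArg Spec.map e))).trans ?_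
    exact Scheme.SpecMap_stalkMap_fromSpecStalk π₁
  refine ⟨(FEt.restrict θ).obj W, fun P a b hab => ?_⟩
  have hrange : Set.range (a ≫ θ) ⊆ Set.range ι := by
    rintro _ ⟨z, rfl⟩
    have hι : Set.range ι = (PrimeSpectrum.basicOpen (algebraMap A R (fA 0)) : Set (PrimeSpectrum R)) :=
      PrimeSpectrum.localization_away_comap_range RF (algebraMap A R (fA 0))
    rw [hι]
    have h1 : f (sK (b z)) ∈ (PrimeSpectrum.basicOpen ϖ : Set (PrimeSpectrum V)) :=
      (mem_range_fst hϖ f).1 ⟨b z, rfl⟩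
    have h2 : sK (b z) = X.fromSpecStalk x (δ ((a ≫ θ) z)) := by
      simp only [← Scheme.Hom.comp_apply, Category.assoc]
      rw [hθ, hab]
    rw [h2, hjpt] at h1
    exact h1
  let h := IsOpenImmersion.lift ι (a ≫ θ) hrange
  let c : Spec (CommRingCat.of RF) ⟶ Spec (CommRingCat.of K0) := Spec.map (CommRingCat.ofHom (algebraMap K0 RF))
  have hb : h ≫ c ≫ b0 = b := by
    rw [← cancel_mono sK, Category.assoc, Category.assoc, hb0]
    have e : c ≫ Spec.map (CommRingCat.ofHom (algebraMap A K0)) = ι ≫ δ := by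
      refine (Spec.map_comp _ _).symm.trans (Eq.trans ?_ (Spec.map_comp _ _))
      refine congrArg Spec.map (CommRingCat.hom_ext (RingHom.ext fun a => ?_))
      exact (IsScalarTower.algebraMap_apply A K0 RF a).symm.trans (IsScalarTower.algebraMap_apply A R RF a)
    show h ≫ c ≫ Spec.map (CommRingCat.ofHom (algebraMap A K0)) ≫ X.fromSpecStalk x = b ≫ sK
    rw [reassoc_of% e, IsOpenImmersion.lift_fac_assoc, Category.assoc, hθ, hab]
  exact ⟨restrictIso a θ rfl W ≪≫ (restrictIso h ι (IsOpenImmersion.lift_fac _ _ _) W).symm ≪≫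
    (FEt.restrict h).mapIso eW ≪≫ (FEt.restrict h).mapIso (restrictIso c b0 rfl Xt) ≪≫
    restrictIso h (c ≫ b0) hb Xt⟩

set_option maxHeartbeats 1000000 in
include hϖ in
/-- A cover with a transitive group of invertible order extends after adjoining a root of the uniformizer. -/
theorem exists_extension_root [Smooth f] {n : ℕ} (hn : IsUnit (n : V))
    (Xt : FEt.Cat (pullback f (genInc V K)))
    (hgal : ∀ (Ω : Type u) [Field Ω] [IsAlgClosed Ω]
      (ξ : Spec (CommRingCat.of Ω) ⟶ pullback f (genInc V K))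
      (s s' : FEt.fiberObj ξ Xt), ∃ σ : Aut Xt, (FEt.fiber ξ).map σ.hom s = s')
    (hdeg : Nat.card (Aut Xt) = n) :
    ∃ Y₁ : FEt.Cat (pullback f (Spec.map (CommRingCat.ofHom
        (algebraMap V (AdjoinRoot (Polynomial.X ^ n - Polynomial.C ϖ)))))),
      Nonempty ((FEt.restrict (pullback.snd (pullback.fst f (genInc V K))
          (pullback.fst f (Spec.map (CommRingCat.ofHom
            (algebraMap V (AdjoinRoot (Polynomial.X ^ n - Polynomial.C ϖ)))))))).obj Y₁ ≅
        (FEt.restrict (pullback.fst (pullback.fst f (genInc V K))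
          (pullback.fst f (Spec.map (CommRingCat.ofHom
            (algebraMap V (AdjoinRoot (Polynomial.X ^ n - Polynomial.C ϖ)))))))).obj Xt) := by
  classical
  let p : Polynomial V := Polynomial.X ^ n - Polynomial.C ϖ
  let V₁ := AdjoinRoot p
  let s1 : Spec (CommRingCat.of V₁) ⟶ Spec (CommRingCat.of V) := Spec.map (CommRingCat.ofHom (algebraMap V V₁))
  let π₁ : pullback f s1 ⟶ X := pullback.fst f s1
  let sK := pullback.fst f (genInc V K)
  haveI : IsOpenImmersion (genInc V K) := isOpenImmersion_genInc hϖ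
  have hn0 : n ≠ 0 := fun h => not_isUnit_zero (M₀ := V) (by rwa [h, Nat.cast_zero] at hn)
  have hmonic : p.Monic := Polynomial.monic_X_pow_sub_C ϖ hn0
  haveI : Module.Free V V₁ := hmonic.free_adjoinRoot
  haveI : Module.Finite V V₁ := hmonic.finite_adjoinRoot
  haveI : IsNoetherianRing V₁ := IsNoetherianRing.of_finite V V₁
  haveI : Flat s1 := by
    rw [HasRingHomProperty.Spec_iff (P := @Flat), CommRingCat.hom_ofHom, RingHom.flat_algebraMap_iff]
    infer_instance
  haveI : Flat π₁ := inferInstanceAs (Flat (pullback.fst f s1))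
  haveI : IsLocallyNoetherian (pullback f s1) := LocallyOfFiniteType.isLocallyNoetherian (pullback.snd f s1)
  let j2 := pullback.snd sK π₁
  let U := j2.opensRange
  let e := j2.isoOpensRange
  have he : e.hom ≫ U.ι = j2 := j2.isoOpensRange_hom_ι
  let Y := (FEt.restrict (e.inv ≫ pullback.fst sK π₁)).obj Xt
  have hmemU : ∀ y : ↥(pullback f s1), y ∈ U ↔ π₁ y ∈ Set.range sK := fun y => by
    show y ∈ Set.range j2 ↔ _
    rw [Scheme.Pullback.range_snd]
    rfl
  have hdense : Dense (U : Set ↥(pullback f s1)) := fun y => by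
    haveI : Flat (π₁ ≫ f) := inferInstance
    obtain ⟨z, hz, hfz⟩ := exists_generization hϖ (π₁ ≫ f) y
    refine mem_closure_iff.2 fun O hO hyO => ⟨z, hz.mem_open hO hyO, ?_⟩
    exact (hmemU z).2 ((mem_range_fst hϖ f).2 (by rwa [← Scheme.Hom.comp_apply]))
  have hreg : ∀ y : ↥(pullback f s1), y ∉ U → IsRegularLocalRing ((pullback f s1).presheaf.stalk y) := fun y _ => by
    haveI := isRegularLocalRing_stalk_root hϖ (n := n) (Nat.one_le_iff_ne_zero.2 hn0) (pullback.snd f s1 y)
    exact Groth.L11.SmRegular.isRegularLocalRing_stalk (pullback.snd f s1) y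
  obtain ⟨Y', ⟨eY⟩⟩ := Groth.L27.ExtendReg.exists_extension U hdense Y hreg fun ξ hξ hd => by
    obtain ⟨Yξ, hY⟩ := exists_extension_at hϖ f hn Xt hgal hdeg ξ (fun h => hξ ((hmemU ξ).2 h)) hd
    obtain ⟨i⟩ := hY _ (pullback.snd U.ι ((pullback f s1).fromSpecStalk ξ))
      (pullback.fst U.ι ((pullback f s1).fromSpecStalk ξ) ≫ e.inv ≫ pullback.fst sK π₁) (by
        rw [← Category.assoc, ← pullback.condition, Category.assoc, Category.assoc, Category.assoc]
        refine congrArg (pullback.fst U.ι _ ≫ ·) ?_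
        show U.ι ≫ π₁ = e.inv ≫ pullback.fst sK π₁ ≫ sK
        rw [pullback.condition, ← Category.assoc]
        refine congrArg (· ≫ π₁) ?_
        exact ((congrArg (e.inv ≫ ·) he).symm.trans (e.inv_hom_id_assoc _)).symm)
    exact ⟨Yξ, ⟨i ≪≫ (restrictIso _ (e.inv ≫ pullback.fst sK π₁) rfl Xt).symm⟩⟩
  exact ⟨Y', ⟨(restrictIso e.hom U.ι he Y').symm ≪≫ (FEt.restrict e.hom).mapIso eY ≪≫
    restrictIso e.hom (e.inv ≫ pullback.fst sK π₁) (e.hom_inv_id_assoc _) Xt⟩⟩

end Groth.L19.AbhGalois
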