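import Groth.Agent.L05.EtRamProper.Galois
import Groth.Agent.L05.EtRamProper.Cover
import Groth.Prelude.Def_SGA1

/-!
# Ramification indices in Galois extensions; residue fields of rings with a transitive group of automorphisms

The first proof is adapted from `Groth.L05.EtRamProper.isTamelyRamified_of_galois`.
-/

set_option autoImplicit false
set_option linter.style.haveILetI false
set_option linter.unusedSectionVars false
set_option maxSynthPendingDepth 3
universe u v

open IsLocalRing Polynomial

namespace Groth.L19.AbhGalois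

/-- The ramification index divides the degree of a Galois extension. -/
theorem idx_dvd_finrank_of_galois {A K L : Type u} [CommRing A] [IsDomain A] [IsDiscreteValuationRing A] [Field K]
    [Algebra A K] [IsFractionRing A K] [Field L] [Algebra K L] [Algebra A L] [IsScalarTower A K L]
    [FiniteDimensional K L] [IsGalois K L] (V : ValuationSubring L)
    (hV : EtRam.Dominates A (algebraMap A L) V) :
    letI : Algebra A V := (RingHom.codRestrict (algebraMap A L) V hV.1).toAlgebra
    ∀ [IsLocalHom (algebraMap A V)],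
      Ideal.ramificationIdx' (maximalIdeal A) (maximalIdeal V) ∣ Module.finrank K L := by
  classical
  let C := integralClosure A L
  haveI : IsFractionRing C L := integralClosure.isFractionRing_of_finite_extension K L
  haveI : IsDedekindDomain C := integralClosure.isDedekindDomain A K L
  haveI : Module.Finite A C := IsIntegralClosure.finite A K L C
  letI := IsIntegralClosure.MulSemiringAction A K L C
  haveI : IsGaloisGroup (L ≃ₐ[K] L) A C := IsGaloisGroup.of_isFractionRing _ A C K L
  have hAC : Function.Injective (algebraMap A C) := fun x y h =>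
    Groth.L05.PrimeDegree.injective_algebraMap A K (L := L) (congrArg Subtype.val h)
  haveI : FaithfulSMul A C := (faithfulSMul_iff_algebraMap_injective A C).2 hAC
  haveI : Module.IsTorsionFree A C := inferInstance
  obtain ⟨π, hπ⟩ := IsDiscreteValuationRing.exists_irreducible A
  letI : Algebra A V := (RingHom.codRestrict (algebraMap A L) V hV.1).toAlgebra
  intro _
  haveI : IsScalarTower A V L := IsScalarTower.of_algebraMap_eq fun _ => rfl
  obtain ⟨hdW, -⟩ := Groth.L05.SepResidueSol.isDiscreteValuationRing_of_finite A K V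
  haveI := hdW
  have hCV : ∀ x : C, (x : L) ∈ V := fun x => by
    obtain ⟨y, hy⟩ := IsIntegrallyClosedIn.isIntegral_iff.mp ((x.2 : IsIntegral A (x : L)).tower_top (A := V))
    exact hy ▸ y.2
  let φ : C →+* V := C.subtype.codRestrict V.toSubring hCV
  letI : Algebra C V := φ.toAlgebra
  haveI : IsScalarTower A C V := IsScalarTower.of_algebraMap_eq fun _ => rfl
  let P : Ideal C := (maximalIdeal V).comap φ
  haveI : P.IsPrime := Ideal.IsPrime.comap φ
  have hπP : algebraMap A C π ∈ P := (mem_maximalIdeal _).mpr fun h =>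
    hπ.not_isUnit ((isUnit_map_iff (algebraMap A V) π).mp h)
  have hP0 : P ≠ ⊥ := fun h => hπ.ne_zero (hAC (by
    rw [map_zero]; exact (Submodule.mem_bot C).mp (h ▸ hπP)))
  haveI hPmax : P.IsMaximal := Ideal.IsPrime.isMaximal inferInstance hP0
  haveI : P.LiesOver (maximalIdeal A) := ⟨by
    ext a
    show a ∈ maximalIdeal A ↔ algebraMap A V a ∈ maximalIdeal V
    rw [mem_maximalIdeal, mem_maximalIdeal]
    exact not_congr (isUnit_map_iff (algebraMap A V) a).symm⟩
  -- `V` is the localization at `P`
  let RQ := Localization.AtPrime P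
  haveI : IsDiscreteValuationRing RQ :=
    IsLocalization.AtPrime.isDiscreteValuationRing_of_dedekind_domain C hP0 RQ
  have hunit : ∀ s : P.primeCompl, IsUnit (φ s) := fun s => by
    by_contra h
    exact s.2 ((mem_maximalIdeal _).mpr h)
  let Φ : RQ →+* V := IsLocalization.lift (M := P.primeCompl) (g := φ) hunit
  have hΦ : ∀ c : C, Φ (algebraMap C RQ c) = φ c := IsLocalization.lift_eq _
  haveI : IsLocalHom Φ := ⟨fun t ht => by
    obtain ⟨a, s, rfl⟩ := IsLocalization.exists_mk'_eq P.primeCompl t
    rw [IsLocalization.AtPrime.isUnit_mk'_iff]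
    intro ha
    have h1 : Φ (IsLocalization.mk' RQ a s) * Φ (algebraMap C RQ s) = φ a := by
      rw [← map_mul, IsLocalization.mk'_spec, hΦ]
    exact (mem_maximalIdeal _).mp ha (h1 ▸ ht.mul ((IsLocalization.map_units RQ s).map Φ) : IsUnit (φ a))⟩
  have hΦi : Function.Injective Φ :=
    IsLocalization.lift_injective_iff hunit |>.mpr fun x y =>
      ⟨fun h => congrArg φ (IsLocalization.injective RQ P.primeCompl_le_nonZeroDivisors h),
        fun h => congrArg _ (Subtype.ext (congrArg (fun t : V => (t : L)) h))⟩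
  have hΦs : Function.Surjective Φ := Groth.L05.UnramBaseChange.surjective_of_local V Φ fun x => by
    obtain ⟨a, b, hb, rfl⟩ := IsFractionRing.div_surjective (A := C) x
    refine ⟨algebraMap C RQ a, algebraMap C RQ b, ?_, ?_⟩
    · rw [hΦ]; exact fun h => nonZeroDivisors.ne_zero hb (Subtype.ext h)
    · rw [hΦ, hΦ]
      show (a : L) / (b : L) * (b : L) = (a : L)
      exact div_mul_cancel₀ _ fun h => nonZeroDivisors.ne_zero hb (Subtype.ext h)
  haveI hloc : IsLocalization.AtPrime V P := IsLocalization.isLocalization_of_algEquiv P.primeCompl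
    (S := RQ) (P := V) { RingEquiv.ofBijective Φ ⟨hΦi, hΦs⟩ with commutes' := hΦ }
  have hmaxV : maximalIdeal V = P.map φ := (IsLocalization.AtPrime.map_eq_maximalIdeal P V).symm
  -- numerical identities
  have hcard := Ideal.ncard_primesOver_mul_ramificationIdxIn_mul_inertiaDegIn (maximalIdeal A) C (L ≃ₐ[K] L)
  rw [Ideal.ramificationIdxIn_eq_ramificationIdx (maximalIdeal A) P (L ≃ₐ[K] L),
    Ideal.inertiaDegIn_eq_inertiaDeg (maximalIdeal A) P (L ≃ₐ[K] L), IsGalois.card_aut_eq_finrank] at hcard
  -- the ramification index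
  have hπV0 : algebraMap A V π ≠ 0 := fun h => hπ.ne_zero (Groth.L05.PrimeDegree.injective_algebraMap A K (L := L) (by
    rw [map_zero, IsScalarTower.algebraMap_apply A V L, h, map_zero]))
  obtain ⟨ϖ, hϖ⟩ := IsDiscreteValuationRing.exists_irreducible V
  obtain ⟨e, w, hw⟩ := IsDiscreteValuationRing.eq_unit_mul_pow_irreducible hπV0 hϖ
  have hmapV : (maximalIdeal A).map (algebraMap A V) = maximalIdeal V ^ e := by
    rw [hπ.maximalIdeal_eq, Ideal.map_span, Set.image_singleton, hw, hϖ.maximalIdeal_eq, Ideal.span_singleton_pow,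
      Ideal.span_singleton_mul_left_unit w.isUnit]
  have hnotle : ∀ k, (maximalIdeal A).map (algebraMap A V) ≤ maximalIdeal V ^ k → k ≤ e := fun k hk => by
    rw [hmapV, hϖ.maximalIdeal_eq, Ideal.span_singleton_pow, Ideal.span_singleton_pow,
      Ideal.span_singleton_le_span_singleton, pow_dvd_pow_iff hϖ.ne_zero hϖ.not_isUnit] at hk
    exact hk
  have hV' : Ideal.ramificationIdx' (maximalIdeal A) (maximalIdeal V) = e :=
    Ideal.ramificationIdx'_spec hmapV.le fun h => (Nat.not_succ_le_self e) (hnotle _ h)
  have hpowV : ∀ k, maximalIdeal V ^ k = (P ^ k).map φ := fun k => by rw [hmaxV, Ideal.map_pow]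
  have hcomap : ∀ k (x : C), φ x ∈ maximalIdeal V ^ k → x ∈ P ^ k := fun k x hx => by
    rw [hpowV] at hx
    obtain ⟨⟨⟨i, hi⟩, s⟩, hxs⟩ := (IsLocalization.mem_map_algebraMap_iff P.primeCompl V).mp hx
    have h1 : x * (s : C) = i := Subtype.ext (congrArg Subtype.val hxs : (x : L) * (s : C) = i)
    have hs : (s : C) ∉ P := s.2
    have htop : Ideal.span {(s : C)} ⊔ P ^ k = ⊤ := Ideal.sup_pow_eq_top (by
      rw [sup_comm]
      exact hPmax.out.2 _ (lt_of_le_of_ne le_sup_left fun he => hs (by
        exact he.ge (Ideal.mem_sup_right (Ideal.mem_span_singleton_self (s : C))))))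
    obtain ⟨u, hu, t, ht, hut⟩ := Submodule.mem_sup.1 ((Ideal.eq_top_iff_one _).mp htop)
    obtain ⟨z, rfl⟩ := Ideal.mem_span_singleton'.1 hu
    rw [show x = z * i + x * t by rw [← h1]; linear_combination -x * hut]
    exact add_mem (Ideal.mul_mem_left _ _ hi) (Ideal.mul_mem_left _ _ ht)
  have hP' : Ideal.ramificationIdx' (maximalIdeal A) P = e := by
    refine Ideal.ramificationIdx'_spec ?_ fun h => (Nat.not_succ_le_self e) (hnotle _ ?_)
    · exact Ideal.map_le_iff_le_comap.mpr fun a ha => hcomap e _ (hmapV ▸ Ideal.mem_map_of_mem _ ha)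
    · rw [hpowV, show algebraMap A V = φ.comp (algebraMap A C) from rfl, ← Ideal.map_map]
      exact Ideal.map_mono h
  rw [← Ideal.ramificationIdx'_eq_ramificationIdx (maximalIdeal A) P (IsDiscreteValuationRing.not_a_field A),
    hP'] at hcard
  -- the residue degree
  have hf : Module.finrank (ResidueField A) (ResidueField V) = P.inertiaDeg A := by
    rw [Ideal.inertiaDeg_eq_of_isMaximal (maximalIdeal A) P]
    refine (Algebra.finrank_eq_of_equiv_equiv (RingEquiv.refl (A ⧸ maximalIdeal A))
      (IsLocalization.AtPrime.equivQuotMaximalIdeal P V) (RingHom.ext fun a => ?_)).symm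
    obtain ⟨a, rfl⟩ := Ideal.Quotient.mk_surjective a
    exact (IsLocalization.AtPrime.equivQuotMaximalIdeal_apply_mk P V (algebraMap A C a)).symm
  rw [← hf] at hcard
  haveI := Groth.L05.SepResidueSol.finite_residueField A K V
  have hn' : ((maximalIdeal A).primesOver C).ncard * (e * Module.finrank (ResidueField A) (ResidueField V)) =
      Module.finrank K L := hcard
  rw [← hn', hV']
  exact dvd_mul_of_dvd_right (dvd_mul_right _ _) _

/-- A residue field of an algebra with a transitive group of automorphisms is Galois of degree dividing the order. -/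
theorem isGalois_residueField {K B : Type u} [Field K] [CommRing B] [Algebra K B] [Module.Finite K B]
    [Algebra.Etale K B] {G : Type v} [Group G] (ρ : G → (B →ₐ[K] B)) (hone : ρ 1 = AlgHom.id K B)
    (hmul : ∀ g h, ρ (g * h) = (ρ h).comp (ρ g))
    (htrans : ∀ (Ω : Type u) [Field Ω] [IsAlgClosed Ω] [Algebra K Ω] (φ ψ : B →ₐ[K] Ω),
      ∃ g, φ.comp (ρ g) = ψ)
    (q : Ideal B) [q.IsPrime] :
    IsGalois K q.ResidueField ∧ FiniteDimensional K q.ResidueField ∧
      Module.finrank K q.ResidueField ∣ Nat.card G := by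
  classical
  haveI : q.IsMaximal := by
    haveI : Algebra.IsIntegral K B := Algebra.IsIntegral.of_finite K B
    haveI : (⊥ : Ideal K).IsMaximal := Ideal.bot_isMaximal
    exact Ideal.isMaximal_of_isIntegral_of_isMaximal_comap q
      ((Ideal.eq_bot_of_prime (q.comap (algebraMap K B))) ▸ ‹(⊥ : Ideal K).IsMaximal›)
  have hbij := Ideal.bijective_algebraMap_quotient_residueField q
  have hsurj : Function.Surjective (algebraMap B q.ResidueField) := by
    rw [IsScalarTower.algebraMap_eq B (B ⧸ q) q.ResidueField, RingHom.coe_comp]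
    exact hbij.2.comp Ideal.Quotient.mk_surjective
  let L := q.ResidueField
  let π : B →ₐ[K] L := IsScalarTower.toAlgHom K B L
  haveI : FiniteDimensional K L := Module.Finite.of_surjective π.toLinearMap hsurj
  haveI : Algebra.FormallyUnramified K L := Algebra.FormallyUnramified.of_surjective π hsurj
  haveI : Algebra.IsSeparable K L := Algebra.FormallyUnramified.isSeparable K L
  let Ω := AlgebraicClosure L
  let F := B →ₐ[K] Ω
  letI : MulAction G F :=
    { smul := fun g φ => φ.comp (ρ g)
      one_smul := fun φ => by show φ.comp (ρ 1) = φ; rw [hone, AlgHom.comp_id]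
      mul_smul := fun g h φ => by
        show φ.comp (ρ (g * h)) = (φ.comp (ρ h)).comp (ρ g)
        rw [hmul, AlgHom.comp_assoc] }
  haveI : MulAction.IsPretransitive G F := ⟨fun φ ψ => htrans Ω φ ψ⟩
  let pt : F → Ideal B := fun φ => RingHom.ker φ
  let j₀ : L →ₐ[K] Ω := IsScalarTower.toAlgHom K L Ω
  let emb : (L →ₐ[K] Ω) → F := fun j => j.comp π
  have hemb : ∀ j, pt (emb j) = q := fun j => by
    ext b
    show j (π b) = 0 ↔ b ∈ q
    rw [map_eq_zero]
    exact Ideal.algebraMap_residueField_eq_zero
  have hinj : Function.Injective emb := fun j j' h => AlgHom.ext fun x => by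
    obtain ⟨b, rfl⟩ := hsurj x
    exact AlgHom.congr_fun h b
  have hfac : ∀ {E : Type u} [Field E] [Algebra K E] (φ : B →ₐ[K] E), RingHom.ker φ = q →
      ∃ j : L →ₐ[K] E, j.comp π = φ := fun {E} _ _ φ hφ => by
    have h1 : q ≤ RingHom.ker φ.toRingHom := hφ.ge
    have h2 : q.primeCompl ≤ (IsUnit.submonoid E).comap φ.toRingHom := fun b hb =>
      isUnit_iff_ne_zero.2 fun h => hb (hφ.le h)
    let l : L →+* E := Ideal.ResidueField.lift q φ.toRingHom h1 h2
    refine ⟨{ l with commutes' := fun r => ?_ },
      AlgHom.ext fun b => Ideal.ResidueField.lift_algebraMap q φ.toRingHom h1 h2 b⟩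
    show Ideal.ResidueField.lift q φ.toRingHom h1 h2 (algebraMap K L r) = algebraMap K E r
    rw [IsScalarTower.algebraMap_apply K B L, Ideal.ResidueField.lift_algebraMap]
    exact φ.commutes r
  have hcard : Nat.card (L →ₐ[K] Ω) = Module.finrank K L := by
    rw [Nat.card_eq_fintype_card, AlgHom.card]
  haveI : IsGalois K L := by
    refine IsGalois.of_card_aut_eq_finrank _ _ ?_
    rw [← hcard]
    refine Nat.card_eq_of_bijective (fun b => j₀.comp b.toAlgHom) ⟨fun b b' h => ?_, fun j => ?_⟩
    · exact AlgEquiv.ext fun r => (algebraMap L Ω).injective (AlgHom.congr_fun h r)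
    · obtain ⟨g, hg⟩ := MulAction.exists_smul_eq G (emb j₀) (emb j)
      have hk : RingHom.ker (π.comp (ρ g)) = q := by
        have h1 := hemb j
        rw [← hg] at h1
        refine Eq.trans ?_ h1
        ext b
        show π (ρ g b) = 0 ↔ algebraMap L Ω (π (ρ g b)) = 0
        exact (map_eq_zero (algebraMap L Ω)).symm
      obtain ⟨b, hb⟩ := hfac (π.comp (ρ g)) hk
      refine ⟨AlgEquiv.ofBijective b (Algebra.IsAlgebraic.algHom_bijective b), hinj ?_⟩
      show (j₀.comp b).comp π = emb j
      rw [AlgHom.comp_assoc, hb, ← hg]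
      rfl
  refine ⟨inferInstance, inferInstance, ?_⟩
  rw [← hcard]
  refine (dvd_of_eq ?_).trans (Groth.L05.EtRamProper.card_fibre_dvd (G := G) pt (fun g φ ψ h => ?_) (emb j₀))
  · refine Nat.card_eq_of_bijective (fun j => ⟨emb j, (hemb j).trans (hemb j₀).symm⟩)
      ⟨fun j j' h => hinj (congrArg Subtype.val h), fun φ => ?_⟩
    obtain ⟨j, hj⟩ := hfac φ.1 (φ.2.trans (hemb j₀))
    exact ⟨j, Subtype.ext hj⟩
  · ext b
    exact SetLike.ext_iff.1 h (ρ g b)

end Groth.L19.AbhGalois
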