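import Groth.Agent.L19.AbhGalois.Core
import Groth.Prelude.Def_FEt

/-!
# Abhyankar for Galois covers of the generic point of a discrete valuation ring, as finite etale covers
-/

set_option autoImplicit false
set_option linter.style.haveILetI false
set_option backward.isDefEq.respectTransparency false
set_option maxSynthPendingDepth 3

universe u v

open AlgebraicGeometry CategoryTheory CategoryTheory.Limits
open scoped TensorProduct

namespace Groth.L19.AbhGalois

set_option maxHeartbeats 2000000 in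
/-- A cover with a transitive group of invertible order extends over the root of the uniformizer. -/
theorem exists_extension_local {A : Type u} [CommRing A] [IsDomain A] [IsDiscreteValuationRing A] {f : Fin 1 → A}
    (hπ : ∀ i, Irreducible (f i)) (K : Type u) [Field K] [Algebra A K] [IsFractionRing A K]
    (Vc : FEt.Cat (Spec (CommRingCat.of K))) {G : Type v} [Group G] (ρ : G →* Aut Vc)
    (htrans : ∀ (Ω : Type u) [Field Ω] [IsAlgClosed Ω] (s t : Spec (CommRingCat.of Ω) ⟶ Vc.left),
      s ≫ Vc.hom = t ≫ Vc.hom → ∃ g, s ≫ (ρ g).hom.left = t)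
    (n : ℕ) (hcard : Nat.card G = n) (hn : IsUnit (n : A))
    (RF : Type u) [CommRing RF] [Algebra (SGA1.kummerAlg A f (fun _ => n)) RF]
    [IsLocalization.Away (algebraMap A (SGA1.kummerAlg A f (fun _ => n)) (f 0)) RF]
    [Algebra A RF] [IsScalarTower A (SGA1.kummerAlg A f (fun _ => n)) RF]
    [Algebra K RF] [IsScalarTower A K RF] :
    ∃ W : FEt.Cat (Spec (CommRingCat.of (SGA1.kummerAlg A f (fun _ => n)))),
      Nonempty ((FEt.restrict (Spec.map (CommRingCat.ofHom
          (algebraMap (SGA1.kummerAlg A f (fun _ => n)) RF)))).obj W ≅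
        (FEt.restrict (Spec.map (CommRingCat.ofHom (algebraMap K RF)))).obj Vc) := by
  classical
  haveI : IsFinite Vc.hom := Vc.prop.1
  haveI : Etale Vc.hom := Vc.prop.2
  haveI : IsAffine ((Functor.fromPUnit (Spec (CommRingCat.of K))).obj Vc.right) :=
    inferInstanceAs (IsAffine (Spec (CommRingCat.of K)))
  haveI : IsAffine Vc.left := isAffine_of_isAffineHom Vc.hom
  let B : Type u := ↑Γ(Vc.left, ⊤)
  let gg : CommRingCat.of K ⟶ CommRingCat.of B := Spec.preimage (Vc.left.isoSpec.inv ≫ Vc.hom)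
  have hgg : Spec.map gg = Vc.left.isoSpec.inv ≫ Vc.hom := Spec.map_preimage _
  letI : Algebra K B := gg.hom.toAlgebra
  haveI : IsFinite (Spec.map gg) := by rw [hgg]; infer_instance
  haveI : Etale (Spec.map gg) := by rw [hgg]; infer_instance
  haveI : Module.Finite K B := RingHom.finite_algebraMap.1 (by
    rw [RingHom.algebraMap_toAlgebra]; exact (IsFinite.SpecMap_iff gg).1 ‹_›)
  haveI : Algebra.Etale K B := RingHom.etale_algebraMap.1 (by
    rw [RingHom.algebraMap_toAlgebra]; exact (HasRingHomProperty.Spec_iff (P := @Etale)).1 ‹_›)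
  -- the action on functions
  let act : G → (CommRingCat.of B ⟶ CommRingCat.of B) := fun g =>
    Spec.preimage (Vc.left.isoSpec.inv ≫ (ρ g).hom.left ≫ Vc.left.isoSpec.hom)
  have hact : ∀ g, Spec.map (act g) = Vc.left.isoSpec.inv ≫ (ρ g).hom.left ≫ Vc.left.isoSpec.hom :=
    fun g => Spec.map_preimage _
  have hover : ∀ g, gg ≫ act g = gg := fun g => Spec.map_injective (by
    rw [Spec.map_comp, hact, hgg, Category.assoc, Category.assoc, Iso.hom_inv_id_assoc]
    exact congrArg (Vc.left.isoSpec.inv ≫ ·) (Over.w (ρ g).hom.hom))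
  let ρB : G → (B →ₐ[K] B) := fun g =>
    { (act g).hom with commutes' := fun r => congr($(hover g).hom r) }
  have hcomp : ∀ g h, act (g * h) = act g ≫ act h := fun g h => Spec.map_injective (by
    rw [Spec.map_comp, hact, hact, hact, map_mul]
    show Vc.left.isoSpec.inv ≫ ((ρ h).hom.left ≫ (ρ g).hom.left) ≫ Vc.left.isoSpec.hom = _
    simp only [Category.assoc, Iso.hom_inv_id_assoc])
  have hone : act 1 = 𝟙 _ := Spec.map_injective (by
    rw [hact, map_one, Spec.map_id]
    show Vc.left.isoSpec.inv ≫ (𝟙 Vc.left) ≫ Vc.left.isoSpec.hom = _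
    rw [Category.id_comp, Iso.inv_hom_id]
    rfl)
  have htransB : ∀ (Ω : Type u) [Field Ω] [IsAlgClosed Ω] [Algebra K Ω] (φ ψ : B →ₐ[K] Ω),
      ∃ g, φ.comp (ρB g) = ψ := by
    intro Ω _ _ _ φ ψ
    let s : ∀ χ : B →ₐ[K] Ω, Spec (CommRingCat.of Ω) ⟶ Vc.left := fun χ =>
      Spec.map (CommRingCat.ofHom χ.toRingHom) ≫ Vc.left.isoSpec.inv
    have hs : ∀ χ, s χ ≫ Vc.hom = Spec.map (CommRingCat.ofHom (algebraMap K Ω)) := fun χ => by
      show (Spec.map (CommRingCat.ofHom χ.toRingHom) ≫ Vc.left.isoSpec.inv) ≫ Vc.hom = _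
      rw [Category.assoc, ← hgg, ← Spec.map_comp]
      congr 1
      exact CommRingCat.hom_ext (RingHom.ext fun r => χ.commutes r)
    obtain ⟨g, hg⟩ := htrans Ω (s φ) (s ψ) ((hs φ).trans (hs ψ).symm)
    refine ⟨g, AlgHom.ext fun b => ?_⟩
    have h1 : act g ≫ CommRingCat.ofHom φ.toRingHom = CommRingCat.ofHom ψ.toRingHom := Spec.map_injective (by
      rw [Spec.map_comp, hact, ← cancel_mono Vc.left.isoSpec.inv]
      simpa [s] using hg)
    exact congr($(h1).hom b)
  let T := RF ⊗[K] B
  obtain ⟨hCet, hCfin, hCloc⟩ := etale_integralClosure_root hπ K ρB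
    (AlgHom.ext fun b => congr($(hone).hom b)) (fun g h => AlgHom.ext fun b => congr($(hcomp g h).hom b))
    htransB n hcard hn RF
  let R := SGA1.kummerAlg A f (fun _ => n)
  let Gπ : R := algebraMap A R (f 0)
  let C := integralClosure R T
  haveI := hCet; haveI := hCfin; haveI := hCloc
  haveI : IsScalarTower R RF T := inferInstance
  let g : Spec (CommRingCat.of C) ⟶ Spec (CommRingCat.of R) := Spec.map (CommRingCat.ofHom (algebraMap R C))
  have hg : FEt.prop g := ⟨(IsFinite.SpecMap_iff _).2 (RingHom.finite_algebraMap.2 hCfin),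
    (HasRingHomProperty.Spec_iff (P := @Etale)).2 (RingHom.etale_algebraMap.2 hCet)⟩
  refine ⟨MorphismProperty.Over.mk ⊤ g hg, ⟨?_⟩⟩
  haveI hpo1 : IsLocalization (Algebra.algebraMapSubmonoid C (Submonoid.powers Gπ)) T := by
    rw [Algebra.algebraMapSubmonoid, Submonoid.map_powers]
    exact hCloc
  have sq1 : IsPullback (Spec.map (CommRingCat.ofHom (algebraMap C T)))
      (Spec.map (CommRingCat.ofHom (algebraMap RF T))) g (Spec.map (CommRingCat.ofHom (algebraMap R RF))) :=
    isPullback_SpecMap_of_isPushout _ _ _ _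
      ((CommRingCat.isPushout_iff_isPushout (R := R) (S := RF) (R' := C) (S' := T)).2
        (Algebra.isPushout_of_isLocalization (Submonoid.powers Gπ) RF C T))
  letI : Algebra B T := Algebra.TensorProduct.rightAlgebra
  have sq2 : IsPullback (Spec.map (CommRingCat.ofHom (algebraMap B T)))
      (Spec.map (CommRingCat.ofHom (algebraMap RF T))) (Spec.map gg)
      (Spec.map (CommRingCat.ofHom (algebraMap K RF))) :=
    isPullback_SpecMap_of_isPushout _ _ _ _
      ((CommRingCat.isPushout_iff_isPushout.2 (inferInstance : Algebra.IsPushout K RF B T)).flip)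
  have h2 : IsPullback (Spec.map (CommRingCat.ofHom (algebraMap B T)) ≫ Vc.left.isoSpec.inv)
      (Spec.map (CommRingCat.ofHom (algebraMap RF T))) Vc.hom (Spec.map (CommRingCat.ofHom (algebraMap K RF))) :=
    sq2.of_iso (Iso.refl _) Vc.left.isoSpec.symm (Iso.refl _) (Iso.refl _) (by simp) (by simp) (by simp [hgg]) (by simp)
  refine MorphismProperty.Over.isoMk (sq1.isoPullback.symm ≪≫ h2.isoPullback) ?_
  show (sq1.isoPullback.symm ≪≫ h2.isoPullback).hom ≫ pullback.snd Vc.hom _ = pullback.snd g _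
  rw [Iso.trans_hom, Iso.symm_hom, Category.assoc, IsPullback.isoPullback_hom_snd, IsPullback.isoPullback_inv_snd]

end Groth.L19.AbhGalois
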